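import Groth.Agent.Lib.GrpQuot.Field
import Groth.Agent.Lib.RedSep.Basic
import Groth.Agent.Lib.EffCartier.Dense
import Groth.Agent.Lib.PerfProd19.Basic
import Mathlib.AlgebraicGeometry.Morphisms.SchemeTheoreticallyDominant
import Mathlib.AlgebraicGeometry.Morphisms.Immersion

/-! # Closed subgroupoids, image of a morphism of groupoids over a field. -/

set_option autoImplicit false
set_option linter.style.haveILetI false
set_option backward.isDefEq.respectTransparency.types false
universe u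

open CategoryTheory CategoryTheory.Limits AlgebraicGeometry TopologicalSpace

noncomputable section

namespace Groth.Agent.GrpdSub19

open Groth.Agent.GrpdB

variable {S : Scheme.{u}} {G : Grpd.GroupoidScheme S}

/-- Data making a monomorphism into the arrows a subgroupoid. -/
structure SubData (G : Grpd.GroupoidScheme S) {Z : Scheme.{u}} (ι : Z ⟶ G.R) where
  e : G.U ⟶ Z
  i : Z ⟶ Z
  c : pullback (ι ≫ G.s) (ι ≫ G.t) ⟶ Z
  he : e ≫ ι = G.e
  hi : i ≫ ι = ι ≫ G.i
  hc : c ≫ ι = cmp G (pullback.fst _ _ ≫ ι) (pullback.snd _ _ ≫ ι)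
    (by rw [Category.assoc, Category.assoc, pullback.condition])

variable {Z : Scheme.{u}} {ι : Z ⟶ G.R} [Mono ι] (d : SubData G ι)

theorem lift_c {T : Scheme.{u}} (α β : T ⟶ Z) (h : α ≫ ι ≫ G.s = β ≫ ι ≫ G.t) :
    (pullback.lift α β h ≫ d.c) ≫ ι = cmp G (α ≫ ι) (β ≫ ι) (by rwa [Category.assoc, Category.assoc]) := by
  rw [Category.assoc, d.hc, comp_cmp]
  exact cmp_congr (by rw [← Category.assoc, pullback.lift_fst]) (by rw [← Category.assoc, pullback.lift_snd]) _

/-- The subgroupoid on a monomorphism. -/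
def sub : Grpd.GroupoidScheme S where
  U := G.U
  R := Z
  pU := G.pU
  pR := ι ≫ G.pR
  s := ι ≫ G.s
  t := ι ≫ G.t
  e := d.e
  i := d.i
  c := d.c
  s_over := by rw [Category.assoc, G.s_over]
  t_over := by rw [Category.assoc, G.t_over]
  comp_s α β h := by rw [← Category.assoc, lift_c, cmp_s, Category.assoc]
  comp_t α β h := by rw [← Category.assoc, lift_c, cmp_t, Category.assoc]
  assoc α β γ h₁ h₂ := by
    rw [← cancel_mono ι, lift_c]
    exact ((cmp_congr (lift_c d α β h₁) rfl _).trans (cmp_assoc _ _ _ _ _)).trans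
      ((cmp_congr rfl (lift_c d β γ h₂).symm _).trans (lift_c d _ _ _).symm)
  e_s := by rw [← Category.assoc, d.he, G.e_s]
  e_t := by rw [← Category.assoc, d.he, G.e_t]
  comp_e α := by
    rw [← cancel_mono ι, lift_c, cmp_congr rfl (show (α ≫ (ι ≫ G.s) ≫ d.e) ≫ ι = ((α ≫ ι) ≫ G.s) ≫ G.e by
      simp only [Category.assoc, d.he])]
    exact cmp_id' _ _ _
  e_comp α := by
    rw [← cancel_mono ι, lift_c, cmp_congr (show (α ≫ (ι ≫ G.t) ≫ d.e) ≫ ι = ((α ≫ ι) ≫ G.t) ≫ G.e by
      simp only [Category.assoc, d.he]) rfl]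
    exact id_cmp' _ _ _
  i_s := by rw [← Category.assoc, d.hi, Category.assoc, G.i_s]
  i_t := by rw [← Category.assoc, d.hi, Category.assoc, G.i_t]
  comp_i α := by
    rw [← cancel_mono ι, lift_c, cmp_congr rfl (show (α ≫ d.i) ≫ ι = inv' (α ≫ ι) by
      simp only [inv', Category.assoc, d.hi])]
    refine (G.comp_i (α ≫ ι)).trans ?_
    simp only [Category.assoc, d.he]
  i_comp α := by
    rw [← cancel_mono ι, lift_c, cmp_congr (show (α ≫ d.i) ≫ ι = inv' (α ≫ ι) by
      simp only [inv', Category.assoc, d.hi]) rfl]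
    refine (G.i_comp (α ≫ ι)).trans ?_
    simp only [Category.assoc, d.he]

/-- Inclusion of the subgroupoid. -/
def incl : Grpd.GroupoidScheme.Hom (sub d) G where
  fU := 𝟙 G.U
  fR := ι
  fU_over := Category.id_comp _
  comm_s := (Category.comp_id _).symm
  comm_t := (Category.comp_id _).symm
  comm_c α β h := lift_c d α β h

/-- A morphism factoring through the arrows factors through the subgroupoid. -/
def factor {G₁ : Grpd.GroupoidScheme S} (f : Grpd.GroupoidScheme.Hom G₁ G) (g : G₁.R ⟶ Z) (hg : g ≫ ι = f.fR) :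
    Grpd.GroupoidScheme.Hom G₁ (sub d) where
  fU := f.fU
  fR := g
  fU_over := f.fU_over
  comm_s := show g ≫ ι ≫ G.s = G₁.s ≫ f.fU by rw [← Category.assoc, hg]; exact f.comm_s
  comm_t := show g ≫ ι ≫ G.t = G₁.t ≫ f.fU by rw [← Category.assoc, hg]; exact f.comm_t
  comm_c α β h := by
    show (pullback.lift α β h ≫ G₁.c) ≫ g = pullback.lift (α ≫ g) (β ≫ g) _ ≫ d.c
    rw [← cancel_mono ι, lift_c]
    refine ((Category.assoc _ _ _).trans ((congrArg (_ ≫ ·) hg).trans (f.comm_c α β h))).trans ?_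
    exact cmp_congr ((congrArg (α ≫ ·) hg.symm).trans (Category.assoc _ _ _).symm)
      ((congrArg (β ≫ ·) hg.symm).trans (Category.assoc _ _ _).symm) _

section Pair

variable {U : Scheme.{u}} (p : U ⟶ S)

/-- Composition of pairs. -/
def pairC : pullback (pullback.snd p p) (pullback.fst p p) ⟶ pullback p p :=
  pullback.lift (pullback.fst _ _ ≫ pullback.fst p p) (pullback.snd _ _ ≫ pullback.snd p p) (by
    rw [Category.assoc, Category.assoc, pullback.condition, ← Category.assoc, pullback.condition (f := pullback.snd p p),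
      Category.assoc, pullback.condition])

variable {T : Scheme.{u}} (α β : T ⟶ pullback p p) (h : α ≫ pullback.snd p p = β ≫ pullback.fst p p)

theorem pairC_fst : (pullback.lift α β h ≫ pairC p) ≫ pullback.fst p p = α ≫ pullback.fst p p := by
  rw [pairC, Category.assoc, pullback.lift_fst, pullback.lift_fst_assoc]

theorem pairC_snd : (pullback.lift α β h ≫ pairC p) ≫ pullback.snd p p = β ≫ pullback.snd p p := by
  rw [pairC, Category.assoc, pullback.lift_snd, pullback.lift_snd_assoc]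

end Pair

/-- Arrows which are pairs of objects. -/
def pair (G : Grpd.GroupoidScheme S) : Grpd.GroupoidScheme S where
  U := G.U
  R := pullback G.pU G.pU
  pU := G.pU
  pR := pullback.fst _ _ ≫ G.pU
  s := pullback.snd _ _
  t := pullback.fst _ _
  e := G.diag
  i := pullback.lift (pullback.snd _ _) (pullback.fst _ _) pullback.condition.symm
  c := pairC G.pU
  s_over := pullback.condition.symm
  t_over := rfl
  comp_s α β h := pairC_snd G.pU α β h
  comp_t α β h := pairC_fst G.pU α β h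
  assoc α β γ h₁ h₂ := by
    apply pullback.hom_ext
    · rw [pairC_fst, pairC_fst, pairC_fst]
    · rw [pairC_snd, pairC_snd, pairC_snd]
  e_s := pullback.lift_snd _ _ _
  e_t := pullback.lift_fst _ _ _
  comp_e α := by
    apply pullback.hom_ext
    · rw [pairC_fst]
    · rw [pairC_snd, Category.assoc, Category.assoc, Grpd.GroupoidScheme.diag, pullback.lift_snd, Category.comp_id]
  e_comp α := by
    apply pullback.hom_ext
    · rw [pairC_fst, Category.assoc, Category.assoc, Grpd.GroupoidScheme.diag, pullback.lift_fst, Category.comp_id]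
    · rw [pairC_snd]
  i_s := pullback.lift_snd _ _ _
  i_t := pullback.lift_fst _ _ _
  comp_i α := by
    apply pullback.hom_ext
    · rw [pairC_fst, Category.assoc, Category.assoc, Grpd.GroupoidScheme.diag, pullback.lift_fst, Category.comp_id]
    · rw [pairC_snd, Category.assoc, Category.assoc, Category.assoc, Grpd.GroupoidScheme.diag, pullback.lift_snd, pullback.lift_snd,
        Category.comp_id]
  i_comp α := by
    apply pullback.hom_ext
    · rw [pairC_fst, Category.assoc, Category.assoc, Category.assoc, Grpd.GroupoidScheme.diag, pullback.lift_fst, pullback.lift_fst,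
        Category.comp_id]
    · rw [pairC_snd, Category.assoc, Category.assoc, Grpd.GroupoidScheme.diag, pullback.lift_snd, Category.comp_id]

/-- The map `(t, s)` is a morphism of groupoids. -/
def toPair (G : Grpd.GroupoidScheme S) : Grpd.GroupoidScheme.Hom G (pair G) where
  fU := 𝟙 G.U
  fR := G.j
  fU_over := Category.id_comp _
  comm_s := (pullback.lift_snd _ _ _).trans (Category.comp_id _).symm
  comm_t := (pullback.lift_fst _ _ _).trans (Category.comp_id _).symm
  comm_c α β h := by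
    apply pullback.hom_ext
    · refine Eq.trans ?_ (pairC_fst G.pU (α ≫ G.j) (β ≫ G.j) _).symm
      exact ((Category.assoc _ _ _).trans ((congrArg (_ ≫ ·) (pullback.lift_fst _ _ _)).trans (G.comp_t α β h))).trans
        ((congrArg (α ≫ ·) (pullback.lift_fst _ _ _).symm).trans (Category.assoc _ _ _).symm)
    · refine Eq.trans ?_ (pairC_snd G.pU (α ≫ G.j) (β ≫ G.j) _).symm
      exact ((Category.assoc _ _ _).trans ((congrArg (_ ≫ ·) (pullback.lift_snd _ _ _)).trans (G.comp_s α β h))).trans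
        ((congrArg (β ≫ ·) (pullback.lift_snd _ _ _).symm).trans (Category.assoc _ _ _).symm)

theorem j_comp_map {G' : Grpd.GroupoidScheme S} (ψ : Grpd.GroupoidScheme.Hom G' (pair G))
    (h₁ h₂ : G'.pU ≫ 𝟙 S = ψ.fU ≫ G.pU) :
    G'.j ≫ pullback.map G'.pU G'.pU G.pU G.pU ψ.fU ψ.fU (𝟙 S) h₁ h₂ = ψ.fR := by
  apply pullback.hom_ext
  · rw [Category.assoc, pullback.lift_fst, Grpd.GroupoidScheme.j, pullback.lift_fst_assoc]
    exact ψ.comm_t.symm
  · rw [Category.assoc, pullback.lift_snd, Grpd.GroupoidScheme.j, pullback.lift_snd_assoc]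
    exact ψ.comm_s.symm

theorem j_sub {Z : Scheme.{u}} {ι : Z ⟶ (pair G).R} [Mono ι] (d : SubData (pair G) ι) : (sub d).j = ι := by
  refine Eq.trans ?_ (j_comp_map (incl d) ((Category.comp_id G.pU).trans (Category.id_comp _).symm)
    ((Category.comp_id G.pU).trans (Category.id_comp _).symm))
  refine (Category.comp_id _).symm.trans (congrArg (_ ≫ ·) ?_)
  apply pullback.hom_ext
  · exact (Category.id_comp _).trans ((pullback.lift_fst _ _ _).trans (Category.comp_id _)).symm
  · exact (Category.id_comp _).trans ((pullback.lift_snd _ _ _).trans (Category.comp_id _)).symm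

section Image

variable {G₁ G₂ : Grpd.GroupoidScheme S} (f : Grpd.GroupoidScheme.Hom G₁ G₂) [IsIso f.fU]
  {k : Type u} [Field k] (eU : G₂.U ≅ Spec (CommRingCat.of k))

include eU in
theorem flat_of_field {X : Scheme.{u}} (q : X ⟶ G₂.U) : Flat q := by
  rw [show q = (q ≫ eU.hom) ≫ eU.inv by simp]
  haveI : Flat (q ≫ eU.hom) := inferInstance
  infer_instance

theorem lift_of_dominant {X Y W Z : Scheme.{u}} (ι : Z ⟶ Y) [IsClosedImmersion ι] (r : X ⟶ W)
    [IsSchemeTheoreticallyDominant r] [QuasiCompact r] (h : W ⟶ Y) (s : X ⟶ Z) (hs : s ≫ ι = r ≫ h) :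
    ∃ l : W ⟶ Z, l ≫ ι = h := by
  refine ⟨IsClosedImmersion.lift ι h ?_, IsClosedImmersion.lift_fac _ _ _⟩
  calc ι.ker ≤ (s ≫ ι).ker := Scheme.Hom.le_ker_comp _ _
    _ = (r ≫ h).ker := by rw [hs]
    _ = h.ker := by rw [Scheme.Hom.ker_comp, r.ker_eq_bot, Scheme.IdealSheafData.map_bot]

include eU in
/-- A closed subscheme in which the image is scheme-theoretically dense is a subgroupoid. -/
theorem nonempty_subData_of_dominant {Z : Scheme.{u}} (ι : Z ⟶ G₂.R) [IsClosedImmersion ι] (g : G₁.R ⟶ Z)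
    (hg : g ≫ ι = f.fR) [IsSchemeTheoreticallyDominant g] [QuasiCompact g] : Nonempty (SubData G₂ ι) := by
  obtain ⟨i, hi⟩ := lift_of_dominant ι g (ι ≫ G₂.i) (G₁.i ≫ g)
    (by rw [Category.assoc, hg, GrpQuot.i_fR, ← Category.assoc, hg])
  haveI : Flat (ι ≫ G₂.s) := flat_of_field eU _
  haveI : Flat (g ≫ ι ≫ G₂.t) := flat_of_field eU _
  haveI : Flat (pullback.snd (ι ≫ G₂.s) (ι ≫ G₂.t)) := inferInstance
  haveI : Flat (pullback.fst (ι ≫ G₂.s) (g ≫ ι ≫ G₂.t)) := inferInstance
  let a : pullback (ι ≫ G₂.s) (g ≫ ι ≫ G₂.t) ⟶ pullback (ι ≫ G₂.s) (ι ≫ G₂.t) :=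
    pullback.lift (pullback.fst _ _) (pullback.snd _ _ ≫ g) (by rw [Category.assoc, pullback.condition])
  have ha : IsPullback (pullback.snd (ι ≫ G₂.s) (g ≫ ι ≫ G₂.t)) a g (pullback.snd (ι ≫ G₂.s) (ι ≫ G₂.t)) := by
    refine IsPullback.of_bot ?_ (pullback.lift_snd _ _ _).symm (IsPullback.of_hasPullback (ι ≫ G₂.s) (ι ≫ G₂.t)).flip
    rw [pullback.lift_fst]
    exact (IsPullback.of_hasPullback (ι ≫ G₂.s) (g ≫ ι ≫ G₂.t)).flip
  let b : pullback (g ≫ ι ≫ G₂.s) (g ≫ ι ≫ G₂.t) ⟶ pullback (ι ≫ G₂.s) (g ≫ ι ≫ G₂.t) :=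
    pullback.lift (pullback.fst _ _ ≫ g) (pullback.snd _ _) (by rw [Category.assoc, pullback.condition])
  have hb : IsPullback b (pullback.fst (g ≫ ι ≫ G₂.s) (g ≫ ι ≫ G₂.t)) (pullback.fst (ι ≫ G₂.s) (g ≫ ι ≫ G₂.t)) g := by
    refine IsPullback.of_right ?_ (pullback.lift_fst _ _ _) (IsPullback.of_hasPullback (ι ≫ G₂.s) (g ≫ ι ≫ G₂.t)).flip
    rw [pullback.lift_snd]
    exact (IsPullback.of_hasPullback (g ≫ ι ≫ G₂.s) (g ≫ ι ≫ G₂.t)).flip
  haveI : IsSchemeTheoreticallyDominant a := IsSchemeTheoreticallyDominant.of_isPullback ha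
  haveI : IsSchemeTheoreticallyDominant b := IsSchemeTheoreticallyDominant.of_isPullback hb.flip
  haveI : QuasiCompact a := MorphismProperty.of_isPullback ha inferInstance
  haveI : QuasiCompact b := MorphismProperty.of_isPullback hb.flip inferInstance
  let p₁ := pullback.fst (g ≫ ι ≫ G₂.s) (g ≫ ι ≫ G₂.t)
  let p₂ := pullback.snd (g ≫ ι ≫ G₂.s) (g ≫ ι ≫ G₂.t)
  have h1 : (b ≫ a) ≫ pullback.fst _ _ = p₁ ≫ g := by rw [Category.assoc, pullback.lift_fst, pullback.lift_fst]
  have h2 : (b ≫ a) ≫ pullback.snd _ _ = p₂ ≫ g := by rw [Category.assoc, pullback.lift_snd, pullback.lift_snd_assoc]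
  have hp : p₁ ≫ G₁.s = p₂ ≫ G₁.t := by
    rw [← cancel_mono f.fU, Category.assoc, Category.assoc, ← f.comm_s, ← f.comm_t, ← hg]
    simpa only [Category.assoc] using pullback.condition (f := g ≫ ι ≫ G₂.s) (g := g ≫ ι ≫ G₂.t)
  obtain ⟨c, hc⟩ := lift_of_dominant ι (b ≫ a)
    (cmp G₂ (pullback.fst _ _ ≫ ι) (pullback.snd _ _ ≫ ι) (by rw [Category.assoc, Category.assoc, pullback.condition]))
    ((pullback.lift p₁ p₂ hp ≫ G₁.c) ≫ g) (by
      rw [Category.assoc, hg, f.comm_c, comp_cmp]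
      exact cmp_congr ((congrArg (p₁ ≫ ·) hg.symm).trans (by rw [← Category.assoc (b ≫ a), h1, Category.assoc]))
        ((congrArg (p₂ ≫ ·) hg.symm).trans (by rw [← Category.assoc (b ≫ a), h2, Category.assoc])) _)
  exact ⟨⟨inv f.fU ≫ G₁.e ≫ g, i, c,
    by rw [Category.assoc, Category.assoc, hg, GrpQuot.e_fR, IsIso.inv_hom_id_assoc], hi, hc⟩⟩

include eU in
/-- The scheme-theoretic image is a subgroupoid. -/
theorem nonempty_subData_image [QuasiCompact f.fR] : Nonempty (SubData G₂ f.fR.imageι) := by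
  haveI : IsSchemeTheoreticallyDominant f.fR.toImage := EffCartier.dominant_toImage _
  exact nonempty_subData_of_dominant f eU _ f.fR.toImage f.fR.toImage_imageι

include eU in
/-- The closure of the image is a subgroupoid, over a perfect field. -/
theorem nonempty_subData_closure [PerfectField k] :
    Nonempty (SubData G₂ (Scheme.IdealSheafData.vanishingIdeal
      (⟨closure (Set.range f.fR), isClosed_closure⟩ : Closeds G₂.R)).subschemeι) := by
  set I := Scheme.IdealSheafData.vanishingIdeal (⟨closure (Set.range f.fR), isClosed_closure⟩ : Closeds G₂.R)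
  haveI : IsReduced I.subscheme := RedSepLib.isReduced_vanishingIdeal_subscheme _
  have hr : Set.range I.subschemeι = closure (Set.range f.fR) := by
    rw [Scheme.IdealSheafData.range_subschemeι]
    exact Scheme.IdealSheafData.coe_support_vanishingIdeal _
  haveI : IsReduced G₂.U := isReduced_of_isOpenImmersion eU.hom
  obtain ⟨e, he⟩ := RedSepLib.exists_lift_of_range_subset G₂.e I.subschemeι (by
    rintro _ ⟨x, rfl⟩
    rw [hr]
    refine subset_closure ⟨G₁.e (inv f.fU x), ?_⟩
    rw [← Scheme.Hom.comp_apply, GrpQuot.e_fR, Scheme.Hom.comp_apply, ← Scheme.Hom.comp_apply (inv f.fU),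
      IsIso.inv_hom_id]
    rfl)
  obtain ⟨i, hi⟩ := RedSepLib.exists_lift_of_range_subset (I.subschemeι ≫ G₂.i) I.subschemeι (by
    rintro _ ⟨x, rfl⟩
    rw [hr, Scheme.Hom.comp_apply]
    exact GrpQuot.i_mem_closure_range f (hr ▸ ⟨x, rfl⟩))
  haveI : IsReduced (pullback (I.subschemeι ≫ G₂.s) (I.subschemeι ≫ G₂.t)) := by
    haveI := PerfProd19.isReduced_pullback ((I.subschemeι ≫ G₂.s) ≫ eU.hom) ((I.subschemeι ≫ G₂.t) ≫ eU.hom)
    exact isReduced_of_isOpenImmersion (pullback.map (I.subschemeι ≫ G₂.s) (I.subschemeι ≫ G₂.t)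
      ((I.subschemeι ≫ G₂.s) ≫ eU.hom) ((I.subschemeι ≫ G₂.t) ≫ eU.hom) (𝟙 _) (𝟙 _) eU.hom (by simp) (by simp))
  obtain ⟨c, hc⟩ := RedSepLib.exists_lift_of_range_subset
    (cmp G₂ (pullback.fst (I.subschemeι ≫ G₂.s) (I.subschemeι ≫ G₂.t) ≫ I.subschemeι) (pullback.snd _ _ ≫ I.subschemeι)
      (by rw [Category.assoc, Category.assoc, pullback.condition])) I.subschemeι (by
    rintro _ ⟨x, rfl⟩
    rw [hr, show cmp G₂ _ _ _ = pullback.lift _ _ _ ≫ G₂.c from rfl, Scheme.Hom.comp_apply]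
    refine GrpQuot.c_mem_closure_range f eU _ ?_ ?_
    · rw [← Scheme.Hom.comp_apply, pullback.lift_fst, Scheme.Hom.comp_apply, ← hr]
      exact ⟨_, rfl⟩
    · rw [← Scheme.Hom.comp_apply, pullback.lift_snd, Scheme.Hom.comp_apply, ← hr]
      exact ⟨_, rfl⟩)
  exact ⟨⟨e, i, c, he, hi, hc⟩⟩

end Image

end Groth.Agent.GrpdSub19
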